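import Cfsg.Agent.H627.Gow.Mackey_m3
import Cfsg.Agent.H720.PV.Regular
import Cfsg.Agent.H45.GG.Series_m3
import Cfsg.Agent.H628.PPrimeKer
import Cfsg.Agent.Characters.CCBasic
import Cfsg.Agent.Nodes.CardSup_m3
import Cfsg.Agent.H710.Cuspidal
import Cfsg.Agent.H115.HC.RankTwo
import Cfsg.Agent.H246.Dl.KTypeMJ_m3
import Cfsg.Agent.H504.ZerosCyc
import Cfsg.Agent.H678.CCData
import Cfsg.Agent.FastGrp
import Cfsg.Agent.Prune
set_option linter.all false
prune_inst 0x7f00000000000000000000000000000000000000000000000000000000000000000000000000000000000000000000000000000000000000000000000000000000000000000000000000000000000000003ffdff7fffffffffffffffffffffbeffbdebfeffff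
open scoped Cfsg.Agent.FastGrp

-- part: H811/PSq/Norm
section
/-!
# The norm of an induced character (helper811, S4844)

* `irr_of_comp` : a character whose restriction is irreducible is irreducible;
* `norm_le` : `[Ind ψ, Ind ψ] ≤ k`, `k` the number of double cosets which contribute;
* `card_le` : the number of constituents.
-/

set_option autoImplicit false

open scoped ComplexConjugate
open Cfsg

namespace Cfsg.Agent.H811.PSq

open Cfsg.Agent.OddOrderCharacters.Clifford Cfsg.Agent.Characters Cfsg.Agent.H53.HC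

universe u

/-- a character whose restriction is irreducible is irreducible -/
theorem irr_of_comp {D L : Type*} [Group D] [Finite D] [Group L] [Finite L] (f : L →* D)
    {χ : D → ℂ} (hχ : IsCharacter D χ) (h : IsIrrCharacter L (χ ∘ f)) : IsIrrCharacter D χ := by
  classical
  have := Fintype.ofFinite D
  have := Fintype.ofFinite L
  have h0 : classInner χ χ ≠ 0 := by
    intro h1
    have h2 := Core.classInner_self_eq_zero h1
    rw [h2] at h
    exact Core.isIrr_ne_zero h rfl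
  obtain ⟨χ₁, hχ₁, h1, -⟩ := exists_common hχ hχ h0
  have h2 := isCharacter_sub_irr hχ hχ₁ h1
  have h3 : IsCharacter L (χ₁ ∘ f) := Core.isCharacter_comp f (Core.isIrr_isCharacter hχ₁)
  have h4 : IsCharacter L ((χ - χ₁) ∘ f) := Core.isCharacter_comp f h2
  have e1 : χ ∘ f = χ₁ ∘ f + (χ - χ₁) ∘ f := by ext x; simp
  have h5 := Core.classInner_irr_self h
  rw [e1, Core.classInner_add_left, Core.classInner_add_right, Core.classInner_add_right] at h5
  obtain ⟨a, ea⟩ := Core.classInner_isNat h3 h3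
  obtain ⟨b, eb⟩ := Core.classInner_isNat h3 h4
  obtain ⟨c, ec⟩ := Core.classInner_isNat h4 h3
  obtain ⟨d, ed⟩ := Core.classInner_isNat h4 h4
  rw [ea, eb, ec, ed] at h5
  have h6 : a + b + (c + d) = 1 := by exact_mod_cast h5
  have ha : a ≠ 0 := by
    rintro rfl
    have h7 := Core.classInner_self_eq_zero (by rw [ea, Nat.cast_zero])
    have h8 := congrFun h7 1
    simp only [Function.comp_apply, map_one, Pi.zero_apply] at h8
    exact Core.isIrr_apply_one_ne_zero hχ₁ h8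
  have hd : d = 0 := by omega
  rw [hd, Nat.cast_zero] at ed
  have h7 := Core.classInner_self_eq_zero ed
  have h8 := congrFun h7 1
  simp only [Function.comp_apply, map_one, Pi.zero_apply, Pi.sub_apply] at h8
  -- a character of degree zero vanishes
  by_cases h9 : classInner (χ - χ₁) (χ - χ₁) = 0
  · have h10 := Core.classInner_self_eq_zero h9
    rw [sub_eq_zero.1 h10]
    exact hχ₁
  · exfalso
    obtain ⟨χ₂, hχ₂, h11, -⟩ := exists_common h2 h2 h9
    have h12 := isCharacter_sub_irr h2 hχ₂ h11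
    obtain ⟨m, hm0, hm⟩ := Core.isIrr_apply_one hχ₂
    obtain ⟨m', hm'⟩ := Core.isCharacter_apply_one h12
    have h13 : (χ - χ₁) 1 = ((m + m' : ℕ) : ℂ) := by
      rw [Nat.cast_add, ← hm, ← hm']
      simp only [Pi.sub_apply]
      ring
    rw [Pi.sub_apply, h8] at h13
    have : m + m' = 0 := by exact_mod_cast h13.symm
    omega

variable {G : Type u} [Group G]

/-- **The Mackey term** of `x` is at most `|T ∩ x T x⁻¹|`. -/
theorem norm_twist_le [Finite G] (T : Subgroup G) [Fintype T] {ψ : T → ℂ} (hψ : IsIrrCharacter T ψ) (x : G)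
    (L : Subgroup G) (hL : L ≤ T) (hL' : ∀ l ∈ L, x⁻¹ * l * x ∈ T)
    (h1 : IsIrrCharacter L (fun l => ψ ⟨l, hL l.2⟩))
    (h2 : IsIrrCharacter L (fun l => ψ ⟨x⁻¹ * l * x, hL' l l.2⟩)) :
    ‖twist T ψ ψ x‖ ≤ Nat.card (dsub T x) := by
  classical
  have : Fintype (dsub T x) := Fintype.ofFinite _
  have hc := Core.isIrr_isCharacter hψ
  let f : L →* dsub T x :=
    { toFun := fun l => ⟨⟨l, hL l.2⟩, (mem_dsub T x _).2 (hL' l l.2)⟩
      map_one' := rfl
      map_mul' := fun _ _ => rfl }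
  have hα' : IsIrrCharacter (dsub T x) (ψ ∘ (dsub T x).subtype) := irr_of_comp f (Core.isCharacter_comp _ hc) h1
  have hβ' : IsIrrCharacter (dsub T x) (ψ ∘ dhom T x) := irr_of_comp f (Core.isCharacter_comp _ hc) h2
  have h3 : twist T ψ ψ x = (Nat.card (dsub T x) : ℂ) * classInner (ψ ∘ (dsub T x).subtype) (ψ ∘ dhom T x) := by
    rw [classInner_apply, mul_inv_cancel_left₀ card_ne_zero', twist_def, sum_eq_sum_subgroup (dsub T x)]
    · refine Finset.sum_congr rfl fun d _ => ?_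
      rw [ext_apply_mem T ψ _ ((mem_dsub T x d).1 d.2)]
      rfl
    · intro t ht
      rw [mem_dsub] at ht
      rw [ext_apply_not_mem T ψ _ ht, map_zero, mul_zero]
  rw [h3, norm_mul, Complex.norm_natCast]
  by_cases he : (ψ ∘ (dsub T x).subtype) = (ψ ∘ dhom T x)
  · rw [← he, Core.classInner_irr_self hα', norm_one, mul_one]
  · rw [Core.classInner_irr_ne hα' hβ' he, norm_zero, mul_zero]
    exact Nat.cast_nonneg _

/-- the order of a double coset -/
theorem card_double [Finite G] (T : Subgroup G) (g : G) :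
    Nat.card {x : G // ∃ a ∈ T, ∃ b ∈ T, x = a * g * b} * Nat.card (dsub T g) ≤ Nat.card T * Nat.card T := by
  classical
  rw [← Nat.card_prod, ← Nat.card_prod]
  choose a ha b hb he using fun x : {x : G // ∃ a ∈ T, ∃ b ∈ T, x = a * g * b} => x.2
  refine Nat.card_le_card_of_injective (fun z : {x : G // ∃ a ∈ T, ∃ b ∈ T, x = a * g * b} × dsub T g =>
    ((⟨a z.1 * z.2.1, mul_mem (ha z.1) z.2.1.2⟩ : T),
      (⟨(g⁻¹ * z.2.1 * g)⁻¹ * b z.1, mul_mem (inv_mem ((mem_dsub T g z.2.1).1 z.2.2)) (hb z.1)⟩ : T))) ?_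
  rintro ⟨x, d⟩ ⟨y, e⟩ hxy
  have h1 : a x * (d : T) = a y * (e : T) := congrArg (fun z => ((z.1 : T) : G)) hxy
  have h2 : (g⁻¹ * ((d : T) : G) * g)⁻¹ * b x = (g⁻¹ * ((e : T) : G) * g)⁻¹ * b y := congrArg (fun z => ((z.2 : T) : G)) hxy
  have h3 : x = y := by
    apply Subtype.ext
    rw [he x, he y]
    calc a x * g * b x = (a x * ((d : T) : G)) * g * ((g⁻¹ * ((d : T) : G) * g)⁻¹ * b x) := by group
      _ = (a y * ((e : T) : G)) * g * ((g⁻¹ * ((e : T) : G) * g)⁻¹ * b y) := by rw [h1, h2]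
      _ = _ := by group
  subst h3
  have h4 : ((d : T) : G) = (e : T) := mul_left_cancel h1
  rw [Subtype.ext (Subtype.ext h4)]

/-- **The norm of an induced character.** -/
theorem norm_le [Fintype G] (T : Subgroup G) {ψ : T → ℂ} (hψ : IsIrrCharacter T ψ) {ι : Type*} [Finite ι] (g : ι → G)
    (hx : ∀ (_ : Fintype T) (x : G), twist T ψ ψ x = 0 ∨ ∃ j, ∃ a ∈ T, ∃ b ∈ T, x = a * g j * b)
    (hg : ∀ j, ∃ (L : Subgroup G) (hL : L ≤ T) (hL' : ∀ l ∈ L, (g j)⁻¹ * l * g j ∈ T),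
      IsIrrCharacter L (fun l => ψ ⟨l, hL l.2⟩) ∧ IsIrrCharacter L (fun l => ψ ⟨(g j)⁻¹ * l * g j, hL' l l.2⟩)) :
    ‖classInner (indFun T ψ) (indFun T ψ)‖ ≤ Nat.card ι := by
  classical
  have : Fintype T := Fintype.ofFinite T
  have : Fintype ι := Fintype.ofFinite ι
  have hcl := Core.isIrr_isClassFunction hψ
  have hb : ∀ j, ‖twist T ψ ψ (g j)‖ ≤ Nat.card (dsub T (g j)) := by
    intro j
    obtain ⟨L, hL, hL', h1, h2⟩ := hg j
    exact norm_twist_le T hψ (g j) L hL hL' h1 h2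
  have h1 : ∀ x : G, ‖twist T ψ ψ x‖ ≤ ∑ j : ι, if ∃ a ∈ T, ∃ b ∈ T, x = a * g j * b then
      (Nat.card (dsub T (g j)) : ℝ) else 0 := by
    intro x
    have hnn : ∀ j : ι, (0 : ℝ) ≤ if ∃ a ∈ T, ∃ b ∈ T, x = a * g j * b then
      (Nat.card (dsub T (g j)) : ℝ) else 0 := by
      intro j
      split_ifs
      · exact Nat.cast_nonneg _
      · exact le_rfl
    rcases hx inferInstance x with h2 | ⟨j, a, ha, b, hb', rfl⟩
    · rw [h2, norm_zero]
      exact Finset.sum_nonneg fun j _ => hnn j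
    · rw [twist_mul T hcl hcl ha hb']
      refine le_trans (hb j) (le_trans ?_ (Finset.single_le_sum (fun j _ => hnn j) (Finset.mem_univ j)))
      rw [if_pos ⟨a, ha, b, hb', rfl⟩]
  have h2 : ‖∑ x : G, twist T ψ ψ x‖ ≤ (Nat.card ι : ℝ) * ((Nat.card T : ℝ) * Nat.card T) := by
    refine le_trans (norm_sum_le _ _) (le_trans (Finset.sum_le_sum fun x _ => h1 x) ?_)
    rw [Finset.sum_comm]
    have h3 : ∀ j ∈ (Finset.univ : Finset ι), (∑ x : G, if ∃ a ∈ T, ∃ b ∈ T, x = a * g j * b then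
        (Nat.card (dsub T (g j)) : ℝ) else 0) ≤ (Nat.card T : ℝ) * Nat.card T := by
      intro j _
      rw [← Finset.sum_filter, Finset.sum_const, nsmul_eq_mul]
      have h4 := card_double T (g j)
      rw [Nat.card_eq_fintype_card (α := {x : G // ∃ a ∈ T, ∃ b ∈ T, x = a * g j * b}), Fintype.card_subtype] at h4
      exact_mod_cast h4
    refine le_trans (Finset.sum_le_sum h3) ?_
    rw [Finset.sum_const, Finset.card_univ, nsmul_eq_mul, Nat.card_eq_fintype_card (α := ι)]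
  have hT : (0 : ℝ) < Nat.card T := by exact_mod_cast Nat.card_pos
  rw [classInner_indFun_indFun, norm_mul, norm_mul, norm_inv, Complex.norm_natCast, ← mul_assoc, ← mul_inv,
    inv_mul_le_iff₀ (mul_pos hT hT)]
  linarith

/-- **The number of constituents.** -/
theorem card_le [Fintype G] {Φ : G → ℂ} (hΦ : IsCharacter G Φ) {k : ℕ} (h : ‖classInner Φ Φ‖ ≤ k)
    (E : Finset (IrrCharacter G)) (hE : ∀ χ ∈ E, classInner Φ χ ≠ 0) :
    E.card ≤ k ∧ (E.card = k → Φ = ∑ χ ∈ E, (χ : G → ℂ)) := by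
  classical
  have : Finite (IrrCharacter G) := Core.finite_irr
  let _ : Fintype (IrrCharacter G) := Fintype.ofFinite _
  obtain ⟨m, hm⟩ := Core.isCharacter_iff.1 hΦ
  have e1 : ∀ χ : IrrCharacter G, classInner Φ χ = m χ := fun χ => by
    rw [hm]; exact Core.classInner_sum_nsmul_irr m χ
  have e3 : classInner Φ Φ = ((∑ χ : IrrCharacter G, m χ ^ 2 : ℕ) : ℂ) := by
    conv_lhs => rw [show classInner Φ Φ = classInner Φ (∑ χ : IrrCharacter G, m χ • (χ : G → ℂ)) by rw [← hm]]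
    rw [Core.classInner_sum_right]
    push_cast
    refine Finset.sum_congr rfl fun χ _ => ?_
    have : (m χ • (χ : G → ℂ)) = (m χ : ℂ) • (χ : G → ℂ) := by rw [Nat.cast_smul_eq_nsmul]
    rw [this, Core.classInner_smul_right, Complex.conj_natCast, e1]
    ring
  rw [e3, Complex.norm_natCast] at h
  have h' : ∑ χ : IrrCharacter G, m χ ^ 2 ≤ k := by exact_mod_cast h
  have hpos : ∀ χ ∈ E, 1 ≤ m χ := by
    intro χ hχ
    have := hE χ hχ
    rw [e1] at this
    exact Nat.one_le_iff_ne_zero.2 fun h0 => this (by rw [h0, Nat.cast_zero])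
  have h1 : E.card ≤ ∑ χ ∈ E, m χ ^ 2 := by
    rw [Finset.card_eq_sum_ones]
    exact Finset.sum_le_sum fun χ hχ => Nat.one_le_pow _ _ (hpos χ hχ)
  have h2 : ∑ χ ∈ E, m χ ^ 2 ≤ ∑ χ : IrrCharacter G, m χ ^ 2 :=
    Finset.sum_le_sum_of_subset_of_nonneg (Finset.subset_univ _) fun _ _ _ => Nat.zero_le _
  refine ⟨le_trans h1 (le_trans h2 h'), fun hk => ?_⟩
  have h3 : ∑ χ ∈ E, m χ ^ 2 = E.card := le_antisymm (le_trans h2 (by rw [hk]; exact h')) h1
  have h4 : ∑ χ ∈ E, m χ ^ 2 = ∑ χ : IrrCharacter G, m χ ^ 2 := le_antisymm h2 (by rw [h3, hk]; exact h')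
  have h5 : ∀ χ, χ ∉ E → m χ = 0 := by
    intro χ hχ
    by_contra h0
    have h6 : ∑ χ ∈ insert χ E, m χ ^ 2 ≤ ∑ χ : IrrCharacter G, m χ ^ 2 :=
      Finset.sum_le_sum_of_subset_of_nonneg (Finset.subset_univ _) fun _ _ _ => Nat.zero_le _
    rw [Finset.sum_insert hχ, ← h4] at h6
    have : 0 < m χ ^ 2 := Nat.pow_pos (Nat.pos_of_ne_zero h0)
    omega
  have h6 : ∀ χ ∈ E, m χ = 1 := by
    intro χ hχ
    have h7 : ∀ ψ ∈ E, 1 ≤ m ψ ^ 2 := fun ψ hψ => Nat.one_le_pow _ _ (hpos ψ hψ)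
    have h8 : ∑ ψ ∈ E, 1 = ∑ ψ ∈ E, m ψ ^ 2 := by rw [h3, Finset.card_eq_sum_ones]
    have h9 := (Finset.sum_eq_sum_iff_of_le h7).1 h8 χ hχ
    have h10 := hpos χ hχ
    nlinarith only [h9]
  rw [hm, ← Finset.sum_subset (Finset.subset_univ E) (fun χ _ hχ => by rw [h5 χ hχ, zero_smul])]
  exact Finset.sum_congr rfl fun χ hχ => by rw [h6 χ hχ, one_smul]

end Cfsg.Agent.H811.PSq
end

-- part: H811/PSq/CuspRgd
section
/-!
# Characters agreeing on the parabolic subgroups are cuspidal (helper811, S4844)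

`R : RGD cs h p T n X` a root group datum of the finite group `Y`.

* `norm_HC` : `ψ` a cuspidal irreducible character of `P_J / V_J`. Then `[Ind ψ, Ind ψ]` is at most the number of
  elements of `W` which permute the simple roots of `J`.
* `sum_VJ_eq_zero` : a family `E` of irreducible characters which agree on all the proper parabolic subgroups, with more
  members than these numbers, consists of cuspidal characters.
-/

set_option autoImplicit false

open scoped ComplexConjugate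
open Cfsg

namespace Cfsg.Agent.H811.PSq

open Cfsg.Agent.OddOrderCharacters.Clifford Cfsg.Agent.Characters Cfsg.Agent.H53.HC

section abs

/-- a constituent with `N` in the kernel -/
theorem exists_fixed {D : Type*} [Group D] [Fintype D] (N : Subgroup D) [N.Normal] [Fintype N] {χ : D → ℂ}
    (hχ : IsCharacter D χ) (h : ∑ v : N, χ v ≠ 0) :
    ∃ ψ : D → ℂ, IsIrrCharacter D ψ ∧ classInner χ ψ ≠ 0 ∧ ∀ v ∈ N, ψ v = ψ 1 := by
  classical
  have : Finite (IrrCharacter D) := Core.finite_irr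
  let _ : Fintype (IrrCharacter D) := Fintype.ofFinite _
  obtain ⟨m, hm⟩ := Core.isCharacter_iff.1 hχ
  have h1 : ∑ v : N, χ v = ∑ ψ : IrrCharacter D, (m ψ : ℂ) * ∑ v : N, (ψ : D → ℂ) v := by
    simp_rw [Finset.mul_sum]
    rw [Finset.sum_comm]
    refine Finset.sum_congr rfl fun v _ => ?_
    conv_lhs => rw [hm]
    rw [Finset.sum_apply]
    refine Finset.sum_congr rfl fun ψ _ => ?_
    rw [Pi.smul_apply, nsmul_eq_mul]
  rw [h1] at h
  obtain ⟨ψ, -, hψ⟩ := Finset.exists_ne_zero_of_sum_ne_zero h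
  refine ⟨ψ, ψ.2, ?_, fun v hv => H628.PPrimeKer.apply_eq_of_sum_ne_zero N ψ.2 (right_ne_zero_of_mul hψ) hv⟩
  have e1 : classInner χ ψ = m ψ := by
    rw [hm]; exact Core.classInner_sum_nsmul_irr m ψ
  rw [e1]
  exact left_ne_zero_of_mul hψ

theorem exists_nat_sum {D : Type*} [Group D] [Finite D] (N : Subgroup D) [Fintype N] {χ : D → ℂ}
    (hχ : IsCharacter D χ) : ∃ a : ℕ, ∑ v : N, χ v = (Nat.card N : ℂ) * a := by
  have h1 : IsCharacter N (χ ∘ N.subtype) := Core.isCharacter_comp _ hχ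
  obtain ⟨a, ha⟩ := Core.classInner_isNat h1 (Core.isCharacter_one (G := N))
  refine ⟨a, ?_⟩
  rw [← ha, classInner_apply, mul_inv_cancel_left₀ card_ne_zero']
  refine Finset.sum_congr rfl fun v _ => ?_
  simp

/-- the sum of a constituent over a subgroup -/
theorem sum_eq_zero_of {D : Type*} [Group D] [Fintype D] (N : Subgroup D) [Fintype N] {χ ψ : D → ℂ}
    (hχ : IsCharacter D χ) (hψ : IsIrrCharacter D ψ) (h : classInner χ ψ ≠ 0) (h0 : ∑ v : N, χ v = 0) :
    ∑ v : N, ψ v = 0 := by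
  have h1 := isCharacter_sub_irr hχ hψ h
  obtain ⟨a, ha⟩ := exists_nat_sum N (Core.isIrr_isCharacter hψ)
  obtain ⟨b, hb⟩ := exists_nat_sum N h1
  have h2 : ∑ v : N, χ v = ∑ v : N, ψ v + ∑ v : N, (χ - ψ) v := by
    rw [← Finset.sum_add_distrib]
    exact Finset.sum_congr rfl fun v _ => by simp
  rw [h0, ha, hb, ← mul_add] at h2
  have h3 : (a : ℂ) + b = 0 := by
    rcases mul_eq_zero.1 h2.symm with h4 | h4
    · exact absurd h4 card_ne_zero'
    · exact h4
  have h4 : a + b = 0 := by exact_mod_cast h3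
  have h5 : a = 0 := by omega
  rw [ha, h5, Nat.cast_zero, mul_zero]

/-- the fixed vectors of `V` in an irreducible character: a constituent of the restriction to `P` -/
theorem exists_cut {G : Type*} [Group G] [Finite G] {V P : Subgroup G} (hV : V ≤ P)
    (hn : P ≤ Subgroup.normalizer (V : Set G)) [Fintype V] [Fintype P] {χ : G → ℂ} (hχ : IsIrrCharacter G χ)
    (h : ∑ v : V, χ v ≠ 0) :
    ∃ ψ : P → ℂ, IsIrrCharacter P ψ ∧ classInner (fun t : P => χ t) ψ ≠ 0 ∧
      (∀ (v : G) (hv : v ∈ V), ψ ⟨v, hV hv⟩ = ψ 1) ∧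
      ∀ (K : Subgroup G) (hK : K ≤ P) [Fintype K], ∑ u : K, χ u = 0 → ∑ u : K, ψ ⟨u, hK u.2⟩ = 0 := by
  classical
  have hN : (V.subgroupOf P).Normal := (Subgroup.normal_subgroupOf_iff_le_normalizer hV).2 hn
  have hf : Fintype (V.subgroupOf P) := Fintype.ofFinite _
  have hc : IsCharacter P (fun t : P => χ t) := Core.isCharacter_comp P.subtype (Core.isIrr_isCharacter hχ)
  have hsum : ∀ (K : Subgroup G) (hK : K ≤ P) [Fintype K] [Fintype (K.subgroupOf P)] (f : P → ℂ),
      ∑ u : K.subgroupOf P, f u = ∑ u : K, f ⟨u, hK u.2⟩ := by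
    intro K hK _ _ f
    exact Fintype.sum_equiv (Subgroup.subgroupOfEquivOfLe hK).toEquiv _ _ fun u => rfl
  obtain ⟨ψ, h1, h2, h3⟩ := exists_fixed (V.subgroupOf P) hc (by
    rw [hsum V hV (fun t : P => χ t)]
    exact h)
  refine ⟨ψ, h1, h2, fun v hv => h3 ⟨v, hV hv⟩ (Subgroup.mem_subgroupOf.2 hv), ?_⟩
  intro K hK _ h0
  have hf' : Fintype (K.subgroupOf P) := Fintype.ofFinite _
  rw [← hsum K hK ψ]
  refine sum_eq_zero_of (K.subgroupOf P) hc h1 h2 ?_
  rw [hsum K hK (fun t : P => χ t)]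
  exact h0

end abs

section rgd

open CoxeterSystem Cfsg.Agent.ChevalleyStructure.CoxeterGeom Cfsg.Agent.Tits.Roots Cfsg.Agent.Tits.Core
  Cfsg.Agent.Tits.Exchange Cfsg.Agent.Nodes.Reps Cfsg.Agent.Nodes.BNOf Cfsg.Agent.Nodes.StabComb
  Cfsg.Agent.Nodes.Bruhat Cfsg.Agent.Nodes.OppDec Cfsg.Agent.Nodes.LeviDec

variable {I W Y : Type*} [Fintype I] [DecidableEq I] [Group W] [Group Y] {M : CoxeterMatrix I}
  {cs : CoxeterSystem M W} {A : I → I → ℤ} {h : IsCartan M A} {p : ℕ} {T : Subgroup Y} {n : I → Y}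
  {X : (I → ℤ) → Subgroup Y}

theorem perm_one (J : Set I) : Perm cs h J 1 := by
  refine ⟨fun i hi => ⟨i, hi, ?_⟩, fun i hi => ⟨i, hi, ?_⟩⟩ <;> simp only [_root_.inv_one, _root_.map_one, _root_.Module.End.one_apply]

theorem T_le_PJ (J : Set I) : T ≤ PJ cs h T X J := le_trans T_le_LJ LJ_le_PJ

variable (R : RGD cs h p T n X)

include R

/-- `ψ` is irreducible on the Levi subgroup -/
theorem irr_LJ [Finite W] [Finite Y] (J : Set I) {ψ : ↥(PJ cs h T X J) → ℂ} (hψ : IsIrrCharacter _ ψ)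
    (hV : ∀ (v : Y) (hv : v ∈ VJ cs h X J), ψ ⟨v, VJ_le_PJ hv⟩ = ψ 1) :
    IsIrrCharacter (LJ cs h T X J) (fun l => ψ ⟨l, LJ_le_PJ l.2⟩) := by
  obtain ⟨π, h1, h2⟩ := exists_projL R J
  refine irr_of_comp π (Core.isCharacter_comp (Subgroup.inclusion LJ_le_PJ) (Core.isIrr_isCharacter hψ)) ?_
  have e : (fun l : LJ cs h T X J => ψ ⟨l, LJ_le_PJ l.2⟩) ∘ π = ψ := by
    funext ⟨x, hx⟩
    obtain ⟨l, hl, v, hv, rfl⟩ := (mem_PJ R).1 hx
    have e1 : (⟨l * v, hx⟩ : PJ cs h T X J) = ⟨l, LJ_le_PJ hl⟩ * ⟨v, VJ_le_PJ hv⟩ := rfl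
    have e2 : π ⟨l * v, hx⟩ = ⟨l, hl⟩ := by rw [e1, map_mul, h1 l hl, h2 v hv, mul_one]
    rw [Function.comp_apply, e2]
    change ψ ⟨l, LJ_le_PJ hl⟩ = ψ ⟨l * v, hx⟩
    rw [e1]
    have e3 := Core.isIrr_isClassFunction hψ (⟨v, VJ_le_PJ hv⟩ * ⟨l, LJ_le_PJ hl⟩) ⟨l, LJ_le_PJ hl⟩
    rw [H628.PPrimeKer.apply_mul_eq hψ (hV v hv)] at e3
    rw [← e3]
    congr 1
    group
  rw [e]
  exact hψ

theorem rp_mem_normalizer_LJ {J : Set I} {w : W} {g : Y} (hg : Rp cs R.nsys w g) (hw : Perm cs h J w) :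
    g ∈ Subgroup.normalizer (LJ cs h T X J : Set Y) := by
  have h1 := hg.mem_normalizer
  have h2 := rp_mem_normalizer_MJ R hg hw
  rw [LJ_eq]
  rw [mem_normalizer_iff_cj] at h1 h2 ⊢
  rw [cj_sup, h1, h2]

/-- **The norm of a Harish-Chandra induced cuspidal character.** -/
theorem norm_HC [Finite W] [Fintype Y] (hG : GG cs h T X = ⊤) (J : Set I)
    {ψ : ↥(PJ cs h T X J) → ℂ} (hψ : IsIrrCharacter _ ψ)
    (hV : ∀ (v : Y) (hv : v ∈ VJ cs h X J), ψ ⟨v, VJ_le_PJ hv⟩ = ψ 1)
    (hc : ∀ i ∈ J, ∀ [Fintype (rad cs h X J i)], ∑ u : rad cs h X J i, ψ ⟨u, rad_le_PJ J i u.2⟩ = 0) :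
    ‖classInner (indFun (PJ cs h T X J) ψ) (indFun (PJ cs h T X J) ψ)‖ ≤ Nat.card {w : W // Perm cs h J w} := by
  classical
  choose g hg using fun w : {w : W // Perm cs h J w} => exists_rp cs R.nsys w.1
  have hcl := Core.isIrr_isClassFunction hψ
  refine norm_le _ hψ g ?_ ?_
  · intro _ x
    by_cases hx : x ∈ PJ cs h T X J
    · right
      have h1 : g ⟨1, perm_one J⟩ ∈ PJ cs h T X J := T_le_PJ J (hg ⟨1, perm_one J⟩).mem_of_one
      exact ⟨⟨1, perm_one J⟩, x * (g ⟨1, perm_one J⟩)⁻¹, mul_mem hx (inv_mem h1), 1, one_mem _, by group⟩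
    · obtain ⟨a, ha, b, hb, w, k, hk, rfl, hwJ, h1, h2⟩ := exists_min_rep R hG J hx
      rcases perm_or h1 h2 with hp | ⟨i, hi, hrad⟩
      · right
        have ht := (hg ⟨w, hp⟩).unique hk
        exact ⟨⟨w, hp⟩, a, ha, ((g ⟨w, hp⟩)⁻¹ * k) * b, mul_mem (T_le_PJ J ht) hb, by group⟩
      · left
        rw [twist_mul _ hcl hcl ha hb]
        have hconj : ∀ l ∈ rad cs h X J i, k⁻¹ * l * k ∈ VJ cs h X J := fun l hl =>
          conj_mem_Sup' R hk (fun x hx => hx.1.1) hrad hl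
        have hf : Fintype (rad cs h X J i) := Fintype.ofFinite _
        refine twist_eq_zero_of_sub _ (Core.isIrr_isCharacter hψ) (Core.isIrr_isCharacter hψ) k (rad cs h X J i)
          (rad_le_PJ J i) (fun l hl => VJ_le_PJ (hconj l hl)) ?_
        have h3 : ∀ l : rad cs h X J i, ψ ⟨l, rad_le_PJ J i l.2⟩ *
            conj (ψ ⟨k⁻¹ * l * k, VJ_le_PJ (hconj l l.2)⟩) = ψ ⟨l, rad_le_PJ J i l.2⟩ * conj (ψ 1) := by
          intro l
          rw [hV _ (hconj l l.2)]
        rw [Finset.sum_congr rfl fun l _ => h3 l, ← Finset.sum_mul, hc i hi, zero_mul]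
  · intro j
    have hN := rp_mem_normalizer_LJ R (hg j) j.2
    have hN' := inv_mem hN
    have hL' : ∀ l ∈ LJ cs h T X J, (g j)⁻¹ * l * g j ∈ LJ cs h T X J := by
      intro l hl
      have := (Subgroup.mem_normalizer_iff.1 hN' l).1 hl
      rwa [inv_inv] at this
    refine ⟨LJ cs h T X J, LJ_le_PJ, fun l hl => LJ_le_PJ (hL' l hl), irr_LJ R J hψ hV, ?_⟩
    have h1 := Core.isIrr_comp (conjME (LJ cs h T X J) hN').toMonoidHom (MulEquiv.surjective _) (irr_LJ R J hψ hV)
    convert h1 using 1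
    funext l
    change ψ _ = ψ _
    congr 1
    apply Subtype.ext
    change (g j)⁻¹ * (l : Y) * g j = (g j)⁻¹ * l * (g j)⁻¹⁻¹
    rw [inv_inv]

omit R in
theorem notJ_diff (J : Set I) (i : I) :
    NotJ cs h (J \ {i}) = NotJ cs h J ∪ PosRad cs h J i := by
  ext x
  constructor
  · rintro ⟨h1, h2, k, hk, hk0⟩
    by_cases hx : ∃ k, k ∉ J ∧ 0 < x k
    · exact Or.inl ⟨h1, h2, hx⟩
    · push Not at hx
      right
      have hkJ : k ∈ J := by
        by_contra hkJ
        have := hx k hkJ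
        omega
      have hki : k = i := by
        by_contra hne
        exact hk ⟨hkJ, hne⟩
      exact ⟨⟨h1, h2, fun k hk => le_antisymm (hx k hk) (h2 k)⟩, hki ▸ hk0⟩
  · rintro (⟨h1, h2, k, hk, hk0⟩ | ⟨⟨h1, h2, -⟩, h4⟩)
    · exact ⟨h1, h2, k, fun hk' => hk hk'.1, hk0⟩
    · exact ⟨h1, h2, i, fun hk' => hk'.2 rfl, h4⟩

omit R in
theorem VJ_diff (J : Set I) (i : I) :
    VJ cs h X (J \ {i}) = VJ cs h X J ⊔ rad cs h X J i := by
  unfold VJ rad
  rw [notJ_diff]
  apply le_antisymm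
  · refine RGD.Sup_le fun z hz => ?_
    rcases hz with hz | hz
    · exact le_trans (RGD.le_Sup hz) le_sup_left
    · exact le_trans (RGD.le_Sup hz) le_sup_right
  · exact sup_le (RGD.Sup_mono Set.subset_union_left) (RGD.Sup_mono Set.subset_union_right)

/-- the sum over `V_{J - i}` -/
theorem sum_diff [Finite W] [Finite Y] {J : Set I} {i : I} {ψ : ↥(PJ cs h T X J) → ℂ}
    (hψ : IsIrrCharacter _ ψ) (hV : ∀ (v : Y) (hv : v ∈ VJ cs h X J), ψ ⟨v, VJ_le_PJ hv⟩ = ψ 1)
    (hK : VJ cs h X (J \ {i}) ≤ PJ cs h T X J) [Fintype (VJ cs h X (J \ {i}))] [Fintype (rad cs h X J i)] :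
    ∑ u : VJ cs h X (J \ {i}), ψ ⟨u, hK u.2⟩ =
      (Nat.card (VJ cs h X J) : ℂ) * ∑ u : rad cs h X J i, ψ ⟨u, rad_le_PJ J i u.2⟩ := by
  classical
  have hf : Fintype (VJ cs h X J) := Fintype.ofFinite _
  have hmem : ∀ z : rad cs h X J i × VJ cs h X J, (z.2 : Y) * z.1 ∈ VJ cs h X (J \ {i}) := by
    intro z
    rw [VJ_diff]
    exact mul_mem (Subgroup.mem_sup_left z.2.2) (Subgroup.mem_sup_right z.1.2)
  have hbij : Function.Bijective (fun z : rad cs h X J i × VJ cs h X J =>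
      (⟨(z.2 : Y) * z.1, hmem z⟩ : VJ cs h X (J \ {i}))) := by
    constructor
    · rintro ⟨a, b⟩ ⟨c, d⟩ e
      have e1 : (b : Y) * a = d * c := congrArg Subtype.val e
      have e2 : (a : Y) * (c : Y)⁻¹ = (b : Y)⁻¹ * d := by
        rw [eq_inv_mul_iff_mul_eq, ← mul_assoc, e1]
        group
      have e3 : (a : Y) * (c : Y)⁻¹ = 1 := eq_one_of_mem_LJ_of_mem_VJ R (J := J)
        (mul_mem (rad_le_LJ J i a.2) (inv_mem (rad_le_LJ J i c.2)))
        (by rw [e2]; exact mul_mem (inv_mem b.2) d.2)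
      have e4 : (a : Y) = c := mul_inv_eq_one.1 e3
      rw [e4] at e1
      exact Prod.ext (Subtype.ext e4) (Subtype.ext (mul_right_cancel e1))
    · rintro ⟨x, hx⟩
      have hn : rad cs h X J i ≤ Subgroup.normalizer (VJ cs h X J : Set Y) :=
        le_trans (rad_le_LJ (T := T) J i) (LJ_le_normalizer_VJ R J)
      have hx' : x ∈ VJ cs h X J ⊔ rad cs h X J i := by rw [← VJ_diff]; exact hx
      have hx2 : x ∈ ((rad cs h X J i ⊔ VJ cs h X J : Subgroup Y) : Set Y) := by
        rw [sup_comm]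
        exact hx'
      rw [Subgroup.coe_mul_of_left_le_normalizer_right _ _ hn] at hx2
      obtain ⟨r, hr, v, hv, rfl⟩ := hx2
      have hv' : r * v * r⁻¹ ∈ VJ cs h X J := (Subgroup.mem_normalizer_iff.1 (hn hr) v).1 hv
      exact ⟨(⟨r, hr⟩, ⟨r * v * r⁻¹, hv'⟩), Subtype.ext (by simp)⟩
  rw [← hbij.sum_comp (fun u : VJ cs h X (J \ {i}) => ψ ⟨u, hK u.2⟩), Fintype.sum_prod_type, Finset.mul_sum]
  refine Finset.sum_congr rfl fun r _ => ?_
  rw [← nsmul_eq_mul, Nat.card_eq_fintype_card, ← Finset.card_univ, ← Finset.sum_const]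
  refine Finset.sum_congr rfl fun v _ => ?_
  exact H628.PPrimeKer.apply_mul_eq hψ (hV v v.2) ⟨r, rad_le_PJ J i r.2⟩

/-- **Characters which agree on the parabolic subgroups are cuspidal.** -/
theorem sum_VJ_eq_zero [Finite W] [Fintype Y] (hG : GG cs h T X = ⊤) (hTc : ∀ a ∈ T, ∀ b ∈ T, a * b = b * a)
    (E : Finset (IrrCharacter Y))
    (hE : ∀ J : Set I, J ≠ Set.univ → ∀ χ ∈ E, ∀ χ' ∈ E, ∀ x ∈ PJ cs h T X J, (χ : Y → ℂ) x = (χ' : Y → ℂ) x)
    (hcard : ∀ J : Set I, J ≠ Set.univ → Nat.card {w : W // Perm cs h J w} < E.card ∨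
      (J = ∅ ∧ Nat.card W = E.card ∧ ¬ E.card ∣ (PJ cs h T X ∅).index)) :
    ∀ J : Set I, J ≠ Set.univ → ∀ χ ∈ E, ∀ [Fintype (VJ cs h X J)], ∑ v : VJ cs h X J, (χ : Y → ℂ) v = 0 := by
  classical
  intro J
  induction hk : J.ncard using Nat.strong_induction_on generalizing J with
  | _ k ih =>
  intro hJ χ hχ _
  by_contra hne
  have hfP : Fintype (PJ cs h T X J) := Fintype.ofFinite _
  obtain ⟨ψ, hψ, hin, hV, hsub⟩ := exists_cut (VJ_le_PJ (T := T)) (PJ_le_normalizer_VJ R J) χ.2 hne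
  have hc : ∀ i ∈ J, ∀ [Fintype (rad cs h X J i)], ∑ u : rad cs h X J i, ψ ⟨u, rad_le_PJ J i u.2⟩ = 0 := by
    intro i hi _
    have hJi : J \ {i} ≠ Set.univ := fun h1 => by
      have h2 : i ∈ J \ {i} := by rw [h1]; trivial
      exact h2.2 rfl
    have hlt : (J \ {i}).ncard < k := by
      rw [← hk]
      exact Set.ncard_sdiff_singleton_lt_of_mem hi (Set.toFinite _)
    have hf' : Fintype (VJ cs h X (J \ {i})) := Fintype.ofFinite _
    have h1 := ih _ hlt (J \ {i}) rfl hJi χ hχ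
    have hK : VJ cs h X (J \ {i}) ≤ PJ cs h T X J := by
      rw [VJ_diff]
      exact sup_le VJ_le_PJ (rad_le_PJ J i)
    have h2 := hsub _ hK h1
    rw [sum_diff R hψ hV hK] at h2
    exact (mul_eq_zero.1 h2).resolve_left (by exact_mod_cast Nat.card_pos.ne')
  have hnorm := norm_HC R hG J hψ hV hc
  have hchar : IsCharacter Y (indFun (PJ cs h T X J) ψ) := Cfsg.Agent.S0148.result _ _ (Core.isIrr_isCharacter hψ)
  have hmem : ∀ χ' ∈ E, classInner (indFun (PJ cs h T X J) ψ) (χ' : Y → ℂ) ≠ 0 := by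
    intro χ' hχ'
    rw [classInner_indFun (PJ cs h T X J) _ _ (Core.isIrr_isClassFunction χ'.2)]
    have e : (fun t : PJ cs h T X J => (χ' : Y → ℂ) t) = fun t : PJ cs h T X J => (χ : Y → ℂ) t :=
      funext fun t => hE J hJ χ' hχ' χ hχ t t.2
    rw [← Core.classInner_conj_symm]
    intro h0
    apply hin
    rw [map_eq_zero] at h0
    rw [← e]
    exact h0
  obtain ⟨h1, h2⟩ := card_le hchar hnorm E hmem
  rcases hcard J hJ with h3 | ⟨rfl, h3, h4⟩
  · omega
  · have h5 : Nat.card {w : W // Perm cs h ∅ w} ≤ Nat.card W := Nat.card_le_card_of_injective _ Subtype.val_injective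
    have h6 : E.card = Nat.card {w : W // Perm cs h ∅ w} := by omega
    have h7 := congrFun (h2 h6) 1
    rw [Finset.sum_apply, indFun_one] at h7
    have h8 : ∑ χ' ∈ E, (χ' : Y → ℂ) 1 = (E.card : ℂ) * (χ : Y → ℂ) 1 := by
      rw [Finset.sum_congr rfl fun χ' hχ' => hE ∅ hJ χ' hχ' χ hχ 1 (one_mem _), Finset.sum_const, nsmul_eq_mul]
    obtain ⟨d, -, hd⟩ := Core.isIrr_apply_one χ.2
    -- `ψ` is linear
    have h9 : ψ 1 = 1 := by
      have h10 := irr_LJ R ∅ hψ hV
      have h11 : LJ cs h T X ∅ = T := by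
        unfold LJ
        have : RootsJ cs h (∅ : Set I) = ∅ := by
          ext x
          simp only [Set.mem_empty_iff_false, iff_false]
          rintro ⟨h12, h13⟩
          exact h12.ne_zero (funext fun k => h13 k (by simp))
        rw [this]
        refine le_antisymm (sup_le le_rfl (RGD.Sup_le fun z hz => ?_)) le_sup_left
        simp at hz
      have h12 : ∀ a b : LJ cs h T X (∅ : Set I), a * b = b * a := by
        intro a b
        exact Subtype.ext (hTc a (h11.le a.2) b (h11.le b.2))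
      have h13 := Cfsg.Agent.Characters.CCBasic.irr_apply_one_of_comm h12 h10
      exact h13
    rw [h8, h9, mul_one, hd] at h7
    exact h4 ⟨d, by exact_mod_cast h7⟩

end rgd

end Cfsg.Agent.H811.PSq
end

-- part: H811/PSq/Fpf
section
/-!
# Zeros of cuspidal characters on the torus (helper811, S4844)

* `fpf_fut` : an element of `T` without fixed points on the root groups `X z`, `z ∈ S`, has no fixed points on `Sup X S`;
* `char_zero` : rank two type argument: if the root groups on which `x ∈ T` has fixed points are at most `X z`, `X (-z)`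
  then a cuspidal character vanishes at `x`;
* `dvd_degree` : a subgroup `E ≤ T` all of whose elements `≠ 1` are of this kind: `|E|` divides the degree.
-/

set_option autoImplicit false

open scoped ComplexConjugate
open Cfsg

namespace Cfsg.Agent.H811.PSq

open CoxeterSystem Cfsg.Agent.ChevalleyStructure.CoxeterGeom Cfsg.Agent.Tits.Roots Cfsg.Agent.Tits.Core
  Cfsg.Agent.Tits.Exchange Cfsg.Agent.Nodes.Reps Cfsg.Agent.Nodes.BNOf Cfsg.Agent.Nodes.StabComb
  Cfsg.Agent.Nodes.Bruhat Cfsg.Agent.Nodes.OppDec Cfsg.Agent.Nodes.LeviDec Cfsg.Agent.Nodes.Unique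
  Cfsg.Agent.Tits.RootComb Cfsg.Agent.Nodes.Comb Cfsg.Agent.Nodes.BNOf.RGD

variable {I W Y : Type*} [Fintype I] [DecidableEq I] [Group W] [Group Y] {M : CoxeterMatrix I}
  {cs : CoxeterSystem M W} {A : I → I → ℤ} {h : IsCartan M A} {p : ℕ} {T : Subgroup Y} {n : I → Y}
  {X : (I → ℤ) → Subgroup Y}

/-- `x` has fixed points on the root group `X z` -/
def NF (X : (I → ℤ) → Subgroup Y) (x : Y) (z : I → ℤ) : Prop := ∃ u ∈ X z, u ≠ 1 ∧ x * u = u * x

theorem closedNotJ (J : Set I) : Closed cs h (NotJ cs h J) := by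
  intro x hx y hy z hz
  obtain ⟨hxr, hx0, k, hk, hk0⟩ := hx
  have h1 : 0 ≤ z := RGD.nonneg_of_btwn hx0 hy.2.1 hz
  refine ⟨hz.1, h1, k, hk, ?_⟩
  exact btwn_apply_pos hz hk0 (hy.2.1 k)

variable (R : RGD cs h p T n X)

include R

theorem fpf_fut [Finite W] {x : Y} (hx : x ∈ T) (w : W) {S : Set (I → ℤ)} (hS : S ⊆ Fut cs h w)
    (hc : Closed cs h S) (hfree : ∀ z ∈ S, ¬ NF X x z) : ∀ u ∈ Sup X S, x * u = u * x → u = 1 := by
  classical
  induction hn : (Fut cs h w).ncard generalizing w S with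
  | zero =>
    have h1 := (Set.ncard_eq_zero (finite_fut w)).1 hn
    rw [h1, Set.subset_empty_iff] at hS
    subst hS
    intro u hu _
    have h2 : Sup X (∅ : Set (I → ℤ)) = ⊥ := by
      rw [eq_bot_iff]
      refine Sup_le fun z hz => ?_
      simp at hz
    rwa [h2, Subgroup.mem_bot] at hu
  | succ k ih =>
    have hne : (Fut cs h w).Nonempty := by
      rw [Set.nonempty_iff_ne_empty]
      intro h1
      rw [h1, Set.ncard_empty] at hn
      omega
    obtain ⟨y, hy⟩ := hne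
    obtain ⟨i, hi⟩ := exists_simple hy
    set z := rep cs h w (sr i) with hzdef
    have hcard : (Fut cs h (w * cs.simple i)).ncard = k := by
      rw [fut_mul hi, Set.ncard_sdiff_singleton_of_mem (mem_fut hi), hn]
      rfl
    have hsub : S \ {z} ⊆ Fut cs h (w * cs.simple i) := by
      rw [fut_mul hi]
      exact Set.sdiff_subset_sdiff_left hS
    have hcl := closed_diff hi hS hc
    by_cases hz : z ∈ S
    · have hpos : S ⊆ Pos cs h := hS.trans (fut_subset_pos w)
      intro u hu hxu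
      obtain ⟨a, ha, b, hb, rfl⟩ := (mem_peel R hpos hc hz).1 hu
      have ha' : x * a * x⁻¹ ∈ X z := by
        have h1 := R.tor z (hpos hz).1 x hx
        rw [← h1]
        exact conj_mem_cj.2 ha
      have hb' : x * b * x⁻¹ ∈ Sup X (S \ {z}) := by
        have h1 := R.T_le_normalizer (S := S \ {z}) (fun y hy => (hpos hy.1).1) hx
        exact (Subgroup.mem_normalizer_iff.1 h1 b).1 hb
      have e1 : (x * a * x⁻¹) * (x * b * x⁻¹) = a * b := by
        calc (x * a * x⁻¹) * (x * b * x⁻¹) = x * (a * b) * x⁻¹ := by group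
          _ = a * b := by rw [hxu]; group
      have e2 : a⁻¹ * (x * a * x⁻¹) = b * (x * b * x⁻¹)⁻¹ := by
        rw [inv_mul_eq_iff_eq_mul, ← mul_assoc, ← e1]
        group
      have h3 : a⁻¹ * (x * a * x⁻¹) ∈ X z ⊓ Sup X (Fut cs h (w * cs.simple i)) :=
        Subgroup.mem_inf.2 ⟨mul_mem (inv_mem ha) ha', by
          rw [e2]
          exact Sup_mono hsub (mul_mem hb (inv_mem hb'))⟩
      rw [tail_inf R, Subgroup.mem_bot] at h3
      have h4 : x * a = a * x := by
        have h5 : x * a * x⁻¹ = a := (inv_mul_eq_one.1 h3).symm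
        calc x * a = (x * a * x⁻¹) * x := by group
          _ = a * x := by rw [h5]
      have h6 : a = 1 := by
        by_contra ha1
        exact hfree z hz ⟨a, ha, ha1, h4⟩
      subst h6
      rw [one_mul] at hxu ⊢
      exact ih (w * cs.simple i) hsub hcl (fun z' hz' => hfree z' hz'.1) hcard b hb hxu
    · have hs : S \ {z} = S := Set.sdiff_singleton_eq_self hz
      rw [hs] at hsub
      exact ih (w * cs.simple i) hsub hc hfree hcard

theorem fpf_VJ [Finite W] {x : Y} (hx : x ∈ T) (J : Set I) (hfree : ∀ z ∈ NotJ cs h J, ¬ NF X x z) :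
    ∀ u ∈ VJ cs h X J, x * u = u * x → u = 1 := by
  refine fpf_fut R hx 1 (S := NotJ cs h J) ?_ (closedNotJ J) hfree
  rw [fut_one]
  exact fun z hz => ⟨hz.1, hz.2.1⟩

/-- a character without fixed vectors of `V_J` -/
theorem zero_of_free [Finite W] [Finite Y] {χ : Y → ℂ} (hχ : IsIrrCharacter Y χ) (J : Set I)
    (hcusp : ∀ [Fintype (VJ cs h X J)], ∑ v : VJ cs h X J, χ v = 0) {x : Y} (hx : x ∈ T)
    (hfree : ∀ z ∈ NotJ cs h J, ¬ NF X x z) : χ x = 0 := by
  classical
  have := Fintype.ofFinite (VJ cs h X J)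
  exact H720.PV.zero_of_regular (VJ cs h X J) hχ hcusp
    (Subgroup.mem_normalizer_iff.1 (PJ_le_normalizer_VJ R J (T_le_PJ J hx))) (fpf_VJ R hx J hfree)

theorem nf_conj [Finite W] {w : W} {g : Y} (hg : Rp cs R.nsys w g) {x : Y} {z : I → ℤ} (hz : IsRoot cs h z)
    (hf : NF X (g⁻¹ * x * g) z) : NF X x (rep cs h w z) := by
  obtain ⟨u, hu, hu1, hxu⟩ := hf
  refine ⟨g * u * g⁻¹, R.conj_mem hg hz hu, ?_, ?_⟩
  · intro h1
    apply hu1
    have h2 : u = g⁻¹ * (g * u * g⁻¹) * g := by group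
    rw [h2, h1]
    group
  · calc x * (g * u * g⁻¹) = g * ((g⁻¹ * x * g) * u) * g⁻¹ := by group
      _ = g * (u * (g⁻¹ * x * g)) * g⁻¹ := by rw [hxu]
      _ = _ := by group

/-- **A cuspidal character vanishes** at the elements of `T` with fixed points on at most one pair of opposite root
groups. -/
theorem char_zero [Finite W] [Finite Y] [Nonempty I] {χ : Y → ℂ} (hχ : IsIrrCharacter Y χ)
    (hcusp : ∀ i : I, ∀ [Fintype (VJ cs h X {i})], ∑ v : VJ cs h X {i}, χ v = 0) {x : Y} (hx : x ∈ T)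
    (hone : ∀ z z', IsRoot cs h z → IsRoot cs h z' → NF X x z → NF X x z' → z = z' ∨ z = -z') : χ x = 0 := by
  classical
  by_cases hex : ∃ z, IsRoot cs h z ∧ NF X x z
  · obtain ⟨z, ⟨w, i, rfl⟩, hz⟩ := hex
    obtain ⟨g, hg⟩ := exists_rp cs R.nsys w
    have hgT : g⁻¹ * x * g ∈ T := by
      have := (Subgroup.mem_normalizer_iff.1 (inv_mem hg.mem_normalizer) x).1 hx
      rwa [inv_inv] at this
    have h1 : χ (g⁻¹ * x * g) = χ x := by
      have := Cfsg.Agent.Characters.Core.isIrr_isClassFunction hχ x g⁻¹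
      rwa [inv_inv] at this
    rw [← h1]
    refine zero_of_free R hχ {i} (hcusp i) hgT fun z hzJ hnf => ?_
    have h2 := nf_conj R hg hzJ.1 hnf
    obtain ⟨k, hk, hk0⟩ := hzJ.2.2
    have hki : k ≠ i := fun h3 => hk (by rw [h3]; rfl)
    have hne : ∀ z' : I → ℤ, (z' = sr i ∨ z' = -sr i) → ¬ 0 < z' k := by
      intro z' hz'
      rcases hz' with rfl | rfl
      · rw [sr_ne (i := i) (j := k) hki]
        exact lt_irrefl _
      · rw [Pi.neg_apply, sr_ne (i := i) (j := k) hki]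
        simp
    refine hne z ?_ hk0
    rcases hone _ _ (hzJ.1.act w) ((isRoot_sr cs h i).act w) h2 hz with h3 | h3
    · left
      have := congrArg (rep cs h w⁻¹) h3
      rwa [rep_inv_apply, rep_inv_apply] at this
    · right
      have := congrArg (rep cs h w⁻¹) h3
      rwa [rep_inv_apply, map_neg, rep_inv_apply] at this
  · push Not at hex
    obtain ⟨i⟩ := (inferInstance : Nonempty I)
    exact zero_of_free R hχ {i} (hcusp i) hx fun z hz => hex z hz.1

/-- **The order of the subgroup `E` of `T` divides the degrees of the cuspidal characters.** -/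
theorem dvd_degree [Finite W] [Finite Y] [Nonempty I] {χ : Y → ℂ} (hχ : IsIrrCharacter Y χ)
    (hcusp : ∀ i : I, ∀ [Fintype (VJ cs h X {i})], ∑ v : VJ cs h X {i}, χ v = 0) {E : Subgroup Y} (hE : E ≤ T)
    (hone : ∀ x ∈ E, x ≠ 1 → ∀ z z', IsRoot cs h z → IsRoot cs h z' → NF X x z → NF X x z' → z = z' ∨ z = -z') :
    Nat.card E ∣ charDegree χ := by
  classical
  have := Fintype.ofFinite Y
  have hf : Fintype E := Fintype.ofFinite E
  obtain ⟨m, hm⟩ := Cfsg.Agent.H710.Cuspidal.exists_mult E hχ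
  rw [Finset.sum_eq_single (1 : E) (fun u _ hu => char_zero R hχ hcusp (hE u.2) (hone u u.2 fun h1 =>
    hu (Subtype.ext h1))) (fun h1 => absurd (Finset.mem_univ _) h1)] at hm
  refine ⟨m, ?_⟩
  rw [OneMemClass.coe_one, Cfsg.Agent.Blocks.Basic.irr_one_eq_charDegree hχ] at hm
  exact_mod_cast hm

end Cfsg.Agent.H811.PSq
end

-- part: H811/PSq/RankTwo
section
/-!
# Rank two (helper811, S4844)

* `card_perm_le` : at most two elements of `W` permute `{α_i}`;
* `dvd_of_family` : the family of characters in rank two.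
-/

set_option autoImplicit false

open scoped ComplexConjugate
open Cfsg

namespace Cfsg.Agent.H811.PSq

open CoxeterSystem Cfsg.Agent.ChevalleyStructure.CoxeterGeom Cfsg.Agent.Tits.Roots Cfsg.Agent.Tits.Core
  Cfsg.Agent.Tits.Exchange Cfsg.Agent.Nodes.Reps Cfsg.Agent.Nodes.BNOf Cfsg.Agent.Nodes.StabComb
  Cfsg.Agent.Nodes.Bruhat Cfsg.Agent.Nodes.OppDec Cfsg.Agent.Nodes.LeviDec Cfsg.Agent.H53.HC Cfsg.Agent.H115.HC

variable {W Y : Type*} [Group W] [Group Y] {M : CoxeterMatrix (Fin 2)}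
  {cs : CoxeterSystem M W} {A : Fin 2 → Fin 2 → ℤ} {h : IsCartan M A} {p : ℕ} {T : Subgroup Y} {n : Fin 2 → Y}
  {X : (Fin 2 → ℤ) → Subgroup Y}

theorem rep_eq_of' [Finite W] {w : W} (hw : w ∉ WJ cs ({1} : Set (Fin 2))) (h0 : rep cs h w (sr 1) = sr 1) :
    rep cs h w (sr 0) = fun k => if k = 1 then A 1 0 else -1 := by
  have hJ : ∀ i : Fin 2, i ∈ ({1} : Set (Fin 2)) ↔ i ≠ 0 := by
    intro i
    (revert i; simp only [_root_.Fin.forall_fin_succ, Fin.isValue, _root_.Set.mem_singleton_iff, _root_.ne_eq, _root_.zero_ne_one, _root_.not_true_eq_false, _root_.Fin.succ_ne_zero, _root_.not_false_eq_true, _root_.iff_true, _root_.Fin.succ_zero_eq_one, _root_.IsEmpty.forall_iff, _root_.and_self])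
  have hp : Perm cs h ({1} : Set (Fin 2)) w := by
    refine ⟨fun i hi => ⟨1, rfl, ?_⟩, fun i hi => ⟨1, rfl, ?_⟩⟩
    · rw [Set.mem_singleton_iff.1 hi]
      nth_rw 1 [← h0]
      rw [rep_inv_apply]
    · rw [Set.mem_singleton_iff.1 hi, h0]
  have h1 := apply_eq_neg hJ hp hw (sr 0)
  rw [sr_self] at h1
  have h2 := pairing_rep h0 (sr 0)
  rw [sr, pairing_single, mul_one] at h2
  unfold pairing at h2
  rw [Fin.sum_univ_two, h.diag, show (rep cs h w (Pi.single 0 1) : Fin 2 → ℤ) 0 = -1 from h1] at h2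
  funext k
  fin_cases k
  · exact h1
  · change rep cs h w (Pi.single 0 1) 1 = A 1 0
    linarith

/-- the element outside `W_{i}` fixing `α_i` is unique -/
theorem eq_of_fix [Finite W] {i : Fin 2} {v w : W} (hv : v ∉ WJ cs ({i} : Set (Fin 2))) (hw : w ∉ WJ cs ({i} : Set (Fin 2)))
    (h0 : rep cs h v (sr i) = sr i) (h1 : rep cs h w (sr i) = sr i) : v = w := by
  refine eq_of_rep (cs := cs) (h := h) fun j => ?_
  revert hv hw h0 h1
  fin_cases i <;> fin_cases j <;> intro hv hw h0 h1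
  · exact h0.trans h1.symm
  · exact (rep_eq_of hv h0).trans (rep_eq_of hw h1).symm
  · exact (rep_eq_of' hv h0).trans (rep_eq_of' hw h1).symm
  · exact h0.trans h1.symm

theorem eq_one_of_mem [Finite W] {i : Fin 2} {w : W} (hw : w ∈ WJ cs ({i} : Set (Fin 2)))
    (h1 : rep cs h w (sr i) = sr i) : w = 1 := by
  have h2 : WJ cs ({i} : Set (Fin 2)) = Subgroup.zpowers (cs.simple i) := by
    unfold WJ
    rw [Set.image_singleton, ← Subgroup.zpowers_eq_closure]
  rw [h2] at hw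
  obtain ⟨k, rfl⟩ := Subgroup.mem_zpowers_iff.1 hw
  have h3 : cs.simple i * cs.simple i = 1 := cs.simple_mul_simple_self i
  rcases Int.even_or_odd k with ⟨m, rfl⟩ | ⟨m, rfl⟩
  · rw [← two_mul, zpow_mul, zpow_two, h3, one_zpow]
  · exfalso
    have h4 : cs.simple i ^ (2 * m + 1) = cs.simple i := by
      rw [zpow_add, zpow_mul, zpow_two, h3, one_zpow, one_mul, zpow_one]
    change rep cs h (cs.simple i ^ (2 * m + 1)) (sr i) = sr i at h1
    rw [h4, rep_simple_sr] at h1
    have h5 := congrFun h1 i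
    rw [Pi.neg_apply, sr_self] at h5
    omega

/-- **At most two elements of `W` permute `{α_i}`.** -/
theorem card_perm_le [Finite W] (i : Fin 2) : Nat.card {w : W // Perm cs h {i} w} ≤ 2 := by
  classical
  have hfix : ∀ w : {w : W // Perm cs h {i} w}, rep cs h w.1 (sr i) = sr i := by
    intro w
    obtain ⟨k, hk, e⟩ := w.2.2 i (Set.mem_singleton i)
    rw [e, Set.mem_singleton_iff.1 hk]
  have h1 : Nat.card {w : W // Perm cs h {i} w} ≤ Nat.card Bool := by
    refine Nat.card_le_card_of_injective (fun w => decide (w.1 ∈ WJ cs ({i} : Set (Fin 2)))) ?_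
    intro v w hvw
    have hvw' : decide (v.1 ∈ WJ cs ({i} : Set (Fin 2))) = decide (w.1 ∈ WJ cs ({i} : Set (Fin 2))) := hvw
    rw [decide_eq_decide] at hvw'
    apply Subtype.ext
    by_cases hv : v.1 ∈ WJ cs ({i} : Set (Fin 2))
    · rw [eq_one_of_mem hv (hfix v), eq_one_of_mem (hvw'.1 hv) (hfix w)]
    · exact eq_of_fix hv (fun hw => hv (hvw'.2 hw)) (hfix v) (hfix w)
  rwa [Nat.card_eq_fintype_card (α := Bool), Fintype.card_bool] at h1

variable (R : RGD cs h p T n X)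

include R

/-- **A family of characters in rank two.** `E` a family of irreducible characters which agree on the two maximal
parabolic subgroups, with more members than `W` (or as many, not dividing the index of `B`); `E₀ ≤ T` a subgroup whose
elements `≠ 1` have fixed points on at most one pair of opposite root groups. Then `|E₀|` divides their degrees. -/
theorem dvd_of_family [Finite W] [Fintype Y] (hG : GG cs h T X = ⊤) (hTc : ∀ a ∈ T, ∀ b ∈ T, a * b = b * a)
    (E : Finset (IrrCharacter Y))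
    (hE : ∀ i, ∀ χ ∈ E, ∀ χ' ∈ E, ∀ x ∈ PJ cs h T X {i}, (χ : Y → ℂ) x = (χ' : Y → ℂ) x)
    (h2 : 2 < E.card) (hcard : Nat.card W < E.card ∨ (Nat.card W = E.card ∧ ¬ E.card ∣ (PJ cs h T X ∅).index))
    {E₀ : Subgroup Y} (hE₀ : E₀ ≤ T)
    (hone : ∀ x ∈ E₀, x ≠ 1 → ∀ z z', IsRoot cs h z → IsRoot cs h z' → NF X x z → NF X x z' → z = z' ∨ z = -z') :
    H33.IM (Nat.card E₀) Y := by
  classical
  have hne : E.Nonempty := Finset.card_pos.1 (by omega)
  obtain ⟨χ, hχ⟩ := hne
  have hcases : ∀ J : Set (Fin 2), J ≠ Set.univ → J = ∅ ∨ J = {0} ∨ J = {1} := by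
    intro J hJ
    by_cases h0 : (0 : Fin 2) ∈ J
    · by_cases h1 : (1 : Fin 2) ∈ J
      · exact absurd (Set.eq_univ_of_forall fun k => by fin_cases k <;> assumption) hJ
      · right; left
        ext k
        fin_cases k
        · simpa using h0
        · simpa using h1
    · by_cases h1 : (1 : Fin 2) ∈ J
      · right; right
        ext k
        fin_cases k
        · simpa using h0
        · simpa using h1
      · left
        ext k
        fin_cases k
        · simpa using h0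
        · simpa using h1
  refine ⟨χ, dvd_degree R χ.2 ?_ hE₀ hone⟩
  intro i _
  refine sum_VJ_eq_zero R hG hTc E ?_ ?_ {i} ?_ χ hχ
  · intro J hJ χ₁ h₁ χ₂ h₂ x hx
    rcases hcases J hJ with rfl | rfl | rfl
    · exact hE 0 χ₁ h₁ χ₂ h₂ x (Cfsg.Agent.H246.Dl.PJ_mono (Set.empty_subset _) hx)
    · exact hE 0 χ₁ h₁ χ₂ h₂ x hx
    · exact hE 1 χ₁ h₁ χ₂ h₂ x hx
  · intro J hJ
    rcases hcases J hJ with rfl | rfl | rfl
    · rcases hcard with h3 | ⟨h3, h4⟩
      · left
        exact lt_of_le_of_lt (Nat.card_le_card_of_injective _ Subtype.val_injective) h3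
      · exact Or.inr ⟨rfl, h3, h4⟩
    · exact Or.inl (lt_of_le_of_lt (card_perm_le 0) h2)
    · exact Or.inl (lt_of_le_of_lt (card_perm_le 1) h2)
  · intro h1
    have h3 : ∀ k : Fin 2, k ∈ ({i} : Set (Fin 2)) := fun k => by rw [h1]; trivial
    have h4 := h3 0
    have h5 := h3 1
    rw [Set.mem_singleton_iff] at h4 h5
    exact absurd (h4.trans h5.symm) (by decide)

end Cfsg.Agent.H811.PSq
end

-- part: H811/PSq/Exc
section
/-!
# The exceptional characters of a cyclic torus (helper811, S4844)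

* `exists_family` : a cyclic subgroup of order `a = s e + 1`, equal to the centralizer of each of its nonidentity
  elements, of automizer `e`: `s` irreducible characters which agree on all the subgroups of order prime to `a`.
-/

set_option autoImplicit false

open scoped ComplexConjugate
open Cfsg

namespace Cfsg.Agent.H811.PSq

open Cfsg.Agent.H504.Zeros Cfsg.Agent.H504.ZeroTI Cfsg.Agent.H129.CycT Cfsg.Agent.Characters.CCBasic
  Cfsg.Agent.Characters.CCEstimates Cfsg.Agent.Characters.CCCounting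

universe u

theorem exists_family {G : Type u} [Group G] [Fintype G] {a e s : ℕ} (hx : CycExact G a) (hea : e < a) (h1 : 1 < a)
    {N : ℤ} (hN : (Nat.card G : ℤ) = a * N) (hmod : ((N : ℤ) : ZMod a) = e) (hs : s * e + 1 = a) (h2 : 2 ≤ s) :
    ∃ E : Finset (IrrCharacter G), E.card = s ∧ ∀ χ ∈ E, ∀ χ' ∈ E, ∀ P : Subgroup G, (Nat.card P).Coprime a →
      ∀ x ∈ P, (χ : G → ℂ) x = (χ' : G → ℂ) x := by
  classical
  obtain ⟨T, hT, hc, hz⟩ := hx
  have hA := cc_of_cyclic hT hz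
  have he := eIdx_of_int hA hc hea h1 hN hmod
  have hCC : IsCC T := by
    refine ⟨?_, hz⟩
    rintro rfl
    rw [Subgroup.card_bot] at hc
    omega
  have hlen : len T = e := by
    have h3 := len_mul_card T
    have h4 := eIdx_mul T
    have h5 : len T * Nat.card T = eIdx T * Nat.card T := by rw [h3, mul_comm (eIdx T), h4]
    rw [← he]
    exact Nat.eq_of_mul_eq_mul_right Nat.card_pos h5
  have : Finite (IrrCharacter G) := Cfsg.Agent.Characters.Core.finite_irr
  have : Fintype (IrrCharacter G) := Fintype.ofFinite _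
  obtain ⟨D⟩ := Cfsg.Agent.H678.CCExact.nonempty_ccData hCC hlen (by rw [hc]; exact hs) h2
  refine ⟨D.R, D.hcard, fun χ hχ χ' hχ' P hP x hx => D.agree χ hχ χ' hχ' x ?_⟩
  rintro ⟨b, hb, hb1, hcj⟩
  have h4 : orderOf x = orderOf b := by
    obtain ⟨c, rfl⟩ := isConj_iff.1 hcj
    exact ((MulAut.conj c).orderOf_eq b)
  have h5 : orderOf b ∣ a := by
    have := orderOf_dvd_natCard (⟨b, hb⟩ : T)
    rwa [← Subgroup.orderOf_coe, hc] at this
  have h6 : orderOf x ∣ Nat.card P := by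
    have := orderOf_dvd_natCard (⟨x, hx⟩ : P)
    rwa [← Subgroup.orderOf_coe] at this
  rw [h4] at h6
  have h7 := Nat.dvd_gcd h6 h5
  rw [hP.gcd_eq_one, Nat.dvd_one, orderOf_eq_one_iff] at h7
  exact hb1 h7

end Cfsg.Agent.H811.PSq
end
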